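import Mathlib
import Groth.Agent.H71.QCoh.FlatBaseChange
import Groth.Agent.H71.QCoh.FlatOverAffine

/-!
# Flatness of a pulled back module over an affine base change, via sections (helper56)
-/

set_option autoImplicit false
set_option linter.style.haveILetI false

open CategoryTheory Limits AlgebraicGeometry TopologicalSpace Opposite TensorProduct

namespace Groth.Agent.H56.Flattening

universe u

section Alg

/-- flatness of a module which is a base change along a pushout square -/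
theorem flat_iff_flat_tensor_of_pushout {R S A B : Type*} [CommRing R] [CommRing S] [CommRing A]
    [CommRing B] [Algebra R S] [Algebra R A] [Algebra R B] [Algebra A B] [Algebra S B]
    [IsScalarTower R A B] [IsScalarTower R S B] [Algebra.IsPushout R S A B]
    {M M' : Type*} [AddCommGroup M] [Module R M] [Module A M] [IsScalarTower R A M]
    [AddCommGroup M'] [Module B M'] [Module S M'] [IsScalarTower S B M']
    (e : M' ≃ₗ[B] B ⊗[A] M) : Module.Flat S M' ↔ Module.Flat S (S ⊗[R] M) := by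
  let e' : M' ≃ₗ[S] S ⊗[R] M :=
    (e.restrictScalars S).trans (Algebra.IsPushout.cancelBaseChange R S A B M)
  exact ⟨fun h => Module.Flat.of_linearEquiv e'.symm, fun h => Module.Flat.of_linearEquiv e'⟩

end Alg

section Chart

variable {X S X' S' : Scheme.{u}} {f : X ⟶ S} {f' : X' ⟶ S'} {g' : X' ⟶ X} {g : S' ⟶ S}

/-- affine charts of a fibre product over given affine opens -/
theorem affine_chart_of (hc : IsPullback g' f' f g) {W : S.Opens} {W' : S'.Opens} {U : X.Opens}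
    (hW : IsAffineOpen W) (hW' : IsAffineOpen W') (hU : IsAffineOpen U)
    (hW'W : W' ≤ g ⁻¹ᵁ W) (hUW : U ≤ f ⁻¹ᵁ W) :
    IsAffineOpen (g' ⁻¹ᵁ U ⊓ f' ⁻¹ᵁ W') ∧
      CategoryTheory.IsPushout (f.appLE W U hUW) (g.appLE W W' hW'W)
        (g'.appLE U (g' ⁻¹ᵁ U ⊓ f' ⁻¹ᵁ W') inf_le_left)
        (f'.appLE W' (g' ⁻¹ᵁ U ⊓ f' ⁻¹ᵁ W') inf_le_right) := by
  have hiso := AlgebraicGeometry.isIso_pushoutSection_of_isAffineOpen hc
    (US := W) (UT := W') (UX := U) hW'W hUW (UY := g' ⁻¹ᵁ U ⊓ f' ⁻¹ᵁ W') rfl hW hW' hU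
  have hpo := (AlgebraicGeometry.isIso_pushoutSection_iff hc hW'W hUW rfl).1 hiso
  have : IsAffine _ := hW
  have : IsAffine _ := hW'
  have : IsAffine _ := hU
  have hUY : IsAffineOpen (g' ⁻¹ᵁ U ⊓ f' ⁻¹ᵁ W') :=
    .of_isIso (Scheme.Hom.isPullback_resLE hc hW'W hUW rfl).isoPullback.hom
  exact ⟨hUY, hpo⟩

end Chart

section Main

variable {A A' : Type u} [CommRing A] [CommRing A'] [Algebra A A']
  {X : Scheme.{u}} (f : X ⟶ Spec (CommRingCat.of A))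

/-- the ring map `A → Γ(X, U)` for `X` over `Spec A` -/
noncomputable def baseHom (U : X.Opens) : A →+* Γ(X, U) :=
  ((Scheme.ΓSpecIso (CommRingCat.of A)).inv ≫ f.appLE ⊤ U le_top).hom

/-- the `A`-module structure on the sections over `U` of a module on `X` over `Spec A` -/
@[reducible] noncomputable def baseModule (F : X.Modules) (U : X.Opens) : Module A Γ(F, U) :=
  Module.compHom _ (baseHom f U)

set_option maxHeartbeats 1600000 in
/-- **Flatness of the pullback over an affine base change, on an affine chart.** -/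
theorem forall_isFlatOverAt_pullback_iff (F : X.Modules) [F.IsQuasicoherent] {U : X.Opens}
    (hU : IsAffineOpen U) :
    letI g : Spec (CommRingCat.of A') ⟶ Spec (CommRingCat.of A) :=
      Spec.map (CommRingCat.ofHom (algebraMap A A'))
    letI := baseModule f F U
    (∀ x' : ↥(pullback f g), pullback.fst f g x' ∈ U →
        FlatMod.IsFlatOverAt (pullback.snd f g)
          ((Scheme.Modules.pullback (pullback.fst f g)).obj F) x') ↔
      Module.Flat A' (A' ⊗[A] Γ(F, U)) := by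
  let g : Spec (CommRingCat.of A') ⟶ Spec (CommRingCat.of A) :=
    Spec.map (CommRingCat.ofHom (algebraMap A A'))
  letI modAM := baseModule f F U
  let g' := pullback.fst f g
  let f' := pullback.snd f g
  have hc : IsPullback g' f' f g := IsPullback.of_hasPullback f g
  obtain ⟨hU', hpo⟩ := affine_chart_of hc (isAffineOpen_top (Spec (CommRingCat.of A)))
    (isAffineOpen_top (Spec (CommRingCat.of A'))) hU (W' := ⊤) le_top le_top
  have e' : g' ⁻¹ᵁ U ⊓ f' ⁻¹ᵁ ⊤ ≤ g' ⁻¹ᵁ U := inf_le_left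
  have e'' : g' ⁻¹ᵁ U ⊓ f' ⁻¹ᵁ ⊤ ≤ f' ⁻¹ᵁ ⊤ := inf_le_right
  -- step 1: pointwise flatness on the chart ↔ flatness of sections over `Γ(S', ⊤)`
  have step1 : (∀ x' : ↥(pullback f g), g' x' ∈ U →
      FlatMod.IsFlatOverAt f' ((Scheme.Modules.pullback g').obj F) x') ↔
      (letI : Module Γ(Spec (CommRingCat.of A'), ⊤)
          Γ((Scheme.Modules.pullback g').obj F, g' ⁻¹ᵁ U ⊓ f' ⁻¹ᵁ ⊤) :=
        Module.compHom _ (f'.appLE ⊤ (g' ⁻¹ᵁ U ⊓ f' ⁻¹ᵁ ⊤) e'').hom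
       Module.Flat Γ(Spec (CommRingCat.of A'), ⊤)
          Γ((Scheme.Modules.pullback g').obj F, g' ⁻¹ᵁ U ⊓ f' ⁻¹ᵁ ⊤)) := by
    constructor
    · intro h
      exact Groth.Agent.H71.QCoh.flat_sections_base_of_isFlatOverAt f' _ hU'
        (isAffineOpen_top _) e'' (fun x hx => h x hx.1)
    · intro h x' hx'
      exact Groth.Agent.H71.QCoh.isFlatOverAt_of_flat_sections_base f' _ hU'
        (isAffineOpen_top _) e'' h (x := x') ⟨hx', trivial⟩
  refine step1.trans ?_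
  -- rings
  letI algAB : Algebra A Γ(X, U) := (baseHom f U).toAlgebra
  letI algA'R' : Algebra A' Γ(Spec (CommRingCat.of A'), ⊤) :=
    (Scheme.ΓSpecIso (CommRingCat.of A')).inv.hom.toAlgebra
  letI algA'B' : Algebra A' Γ(pullback f g, g' ⁻¹ᵁ U ⊓ f' ⁻¹ᵁ ⊤) :=
    ((Scheme.ΓSpecIso (CommRingCat.of A')).inv ≫ f'.appLE ⊤ (g' ⁻¹ᵁ U ⊓ f' ⁻¹ᵁ ⊤) e'').hom.toAlgebra
  letI algBB' : Algebra Γ(X, U) Γ(pullback f g, g' ⁻¹ᵁ U ⊓ f' ⁻¹ᵁ ⊤) :=
    (g'.appLE U _ e').hom.toAlgebra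
  letI algAB' : Algebra A Γ(pullback f g, g' ⁻¹ᵁ U ⊓ f' ⁻¹ᵁ ⊤) :=
    ((algebraMap Γ(X, U) Γ(pullback f g, g' ⁻¹ᵁ U ⊓ f' ⁻¹ᵁ ⊤)).comp
      (algebraMap A Γ(X, U))).toAlgebra
  haveI : IsScalarTower A Γ(X, U) Γ(pullback f g, g' ⁻¹ᵁ U ⊓ f' ⁻¹ᵁ ⊤) :=
    IsScalarTower.of_algebraMap_eq (fun _ => rfl)
  -- the pushout square over `A`
  have hpo2 : CategoryTheory.IsPushout (CommRingCat.ofHom (algebraMap A Γ(X, U)))
      (CommRingCat.ofHom (algebraMap A A'))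
      (CommRingCat.ofHom (algebraMap Γ(X, U) Γ(pullback f g, g' ⁻¹ᵁ U ⊓ f' ⁻¹ᵁ ⊤)))
      (CommRingCat.ofHom (algebraMap A' Γ(pullback f g, g' ⁻¹ᵁ U ⊓ f' ⁻¹ᵁ ⊤))) := by
    refine hpo.of_iso (Scheme.ΓSpecIso (CommRingCat.of A)) (Iso.refl _)
      (Scheme.ΓSpecIso (CommRingCat.of A')) (Iso.refl _) ?_ ?_ ?_ ?_
    · change _ = (Scheme.ΓSpecIso (CommRingCat.of A)).hom ≫
        ((Scheme.ΓSpecIso (CommRingCat.of A)).inv ≫ f.appLE ⊤ U le_top)
      rw [Iso.hom_inv_id_assoc, Iso.refl_hom, Category.comp_id]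
    · rw [Groth.Agent.H71.QCoh.appLE_top_top_eq_appTop]
      exact Scheme.ΓSpecIso_naturality (CommRingCat.ofHom (algebraMap A A'))
    · rw [Iso.refl_hom, Iso.refl_hom, Category.comp_id, Category.id_comp]
      rfl
    · change _ = (Scheme.ΓSpecIso (CommRingCat.of A')).hom ≫
        ((Scheme.ΓSpecIso (CommRingCat.of A')).inv ≫ f'.appLE ⊤ (g' ⁻¹ᵁ U ⊓ f' ⁻¹ᵁ ⊤) e'')
      rw [Iso.hom_inv_id_assoc, Iso.refl_hom, Category.comp_id]
  haveI : IsScalarTower A A' Γ(pullback f g, g' ⁻¹ᵁ U ⊓ f' ⁻¹ᵁ ⊤) :=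
    IsScalarTower.of_algebraMap_eq (fun a => by
      have := congrArg (fun k => k.hom a) hpo2.w
      exact this)
  haveI hpo' : Algebra.IsPushout A Γ(X, U) A' Γ(pullback f g, g' ⁻¹ᵁ U ⊓ f' ⁻¹ᵁ ⊤) :=
    CommRingCat.isPushout_iff_isPushout.mp hpo2
  haveI : Algebra.IsPushout A A' Γ(X, U) Γ(pullback f g, g' ⁻¹ᵁ U ⊓ f' ⁻¹ᵁ ⊤) := hpo'.symm
  -- modules
  haveI : IsScalarTower A Γ(X, U) Γ(F, U) := IsScalarTower.of_algebraMap_smul (fun r m => rfl)
  letI modR'M' : Module Γ(Spec (CommRingCat.of A'), ⊤)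
      Γ((Scheme.Modules.pullback g').obj F, g' ⁻¹ᵁ U ⊓ f' ⁻¹ᵁ ⊤) :=
    Module.compHom _ (f'.appLE ⊤ (g' ⁻¹ᵁ U ⊓ f' ⁻¹ᵁ ⊤) e'').hom
  letI modA'M' : Module A' Γ((Scheme.Modules.pullback g').obj F, g' ⁻¹ᵁ U ⊓ f' ⁻¹ᵁ ⊤) :=
    Module.compHom _ (algebraMap A' Γ(pullback f g, g' ⁻¹ᵁ U ⊓ f' ⁻¹ᵁ ⊤))
  haveI : IsScalarTower A' Γ(pullback f g, g' ⁻¹ᵁ U ⊓ f' ⁻¹ᵁ ⊤)
      Γ((Scheme.Modules.pullback g').obj F, g' ⁻¹ᵁ U ⊓ f' ⁻¹ᵁ ⊤) :=
    IsScalarTower.of_algebraMap_smul (fun r m => rfl)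
  haveI : IsScalarTower A' Γ(Spec (CommRingCat.of A'), ⊤)
      Γ((Scheme.Modules.pullback g').obj F, g' ⁻¹ᵁ U ⊓ f' ⁻¹ᵁ ⊤) :=
    IsScalarTower.of_algebraMap_smul (fun r m => rfl)
  have hbij : Function.Bijective (algebraMap A' Γ(Spec (CommRingCat.of A'), ⊤)) :=
    ConcreteCategory.bijective_of_isIso (Scheme.ΓSpecIso (CommRingCat.of A')).inv
  refine (Groth.Agent.H71.QCoh.flat_iff_of_bijective_algebraMap hbij).trans ?_
  exact flat_iff_flat_tensor_of_pushout (R := A) (S := A') (A := Γ(X, U))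
    (B := Γ(pullback f g, g' ⁻¹ᵁ U ⊓ f' ⁻¹ᵁ ⊤))
    (Groth.Agent.H44.pullbackSectionsEquiv g' F hU' hU e')

end Main

end Groth.Agent.H56.Flattening
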