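import Mathlib
import Groth.Agent.S4853
import Groth.Agent.H70.MinFree.ModelBC
import Groth.Agent.H17.GenFreeAlg

/-!
# Generic flattening ideal: the Noetherian core (helper56)

For a model `𝓜` over `Z` and a Noetherian `Z`-algebra `C` with prime nilradical there are
`s ∉ nilradical C` and an ideal `J ≤ nilradical C` such that for every `C`-algebra `A'` in which `s`
is invertible, `𝓜.Mod A'` is flat over `A'` iff `J A' = 0`.
-/

set_option autoImplicit false
set_option linter.style.haveILetI false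
universe u
open TensorProduct Function

namespace Groth.Agent.H56.Flattening

open Groth.Agent.H1.FlatLocus Groth.Agent.H70.MinFree

attribute [local instance] MvPolynomial.algebraMvPolynomial

variable {Z : Type u} [CommRing Z] (𝓜 : Model Z)

theorem exists_ideal_of_noetherian (C : Type u) [CommRing C] [Algebra Z C] [IsNoetherianRing C]
    (hprime : (nilradical C).IsPrime) :
    ∃ s : C, s ∉ nilradical C ∧ ∃ J : Ideal C, J ≤ nilradical C ∧
      ∀ (A' : Type u) [CommRing A'] [Algebra C A'] [Algebra Z A'] [IsScalarTower Z C A'],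
        IsUnit (algebraMap C A' s) →
        (Module.Flat A' (𝓜.Mod A') ↔ Ideal.map (algebraMap C A') J = ⊥) := by
  set n := nilradical C with hn
  let D := C ⧸ n
  haveI : IsDomain D := Ideal.Quotient.isDomain n
  have hgf : Groth.Agent.H17.GenFree D (𝓜.Mod D) :=
    Groth.Agent.H17.genFree_of_finite_of_finiteType D (𝓜.P D) (𝓜.Mod D)
  obtain ⟨abar, habar, hfree⟩ := hgf
  obtain ⟨s, rfl⟩ := Ideal.Quotient.mk_surjective abar
  have hs : s ∉ n := fun h => habar (Ideal.Quotient.eq_zero_iff_mem.mpr h)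
  refine ⟨s, hs, ?_⟩
  let C₁ := Localization.Away s
  let I₁ : Ideal C₁ := n.map (algebraMap C C₁)
  let D₁ := C₁ ⧸ I₁
  have hI₁ : IsNilpotent I₁ := by
    obtain ⟨k, hk⟩ := IsNoetherianRing.isNilpotent_nilradical C
    refine ⟨k, ?_⟩
    change (n.map (algebraMap C C₁)) ^ k = 0
    rw [← Ideal.map_pow]
    rw [show n ^ k = ⊥ from hk, Ideal.map_bot]
    rfl
  haveI hloc : IsLocalization (Algebra.algebraMapSubmonoid D (Submonoid.powers s)) D₁ :=
    inferInstance
  haveI : Module.Flat D D₁ :=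
    IsLocalization.flat D₁ (Algebra.algebraMapSubmonoid D (Submonoid.powers s))
  have hunit : IsUnit (algebraMap D D₁ (Ideal.Quotient.mk n s)) :=
    IsLocalization.map_units D₁
      (⟨_, ⟨s, Submonoid.mem_powers s, rfl⟩⟩ :
        Algebra.algebraMapSubmonoid D (Submonoid.powers s))
  have hfree₁ : Module.Free D₁ (D₁ ⊗[D] 𝓜.Mod D) := hfree D₁ hunit
  haveI : IsScalarTower Z D D₁ := by
    refine IsScalarTower.of_algebraMap_eq fun z => ?_
    rfl
  have hfree₂ : Module.Free D₁ (𝓜.Mod D₁) := Module.Free.of_equiv (modBaseChange 𝓜 D D₁)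
  have hfree₃ : Module.Free D₁ (D₁ ⊗[C₁] 𝓜.Mod C₁) :=
    Module.Free.of_equiv (modBaseChange 𝓜 C₁ D₁).symm
  -- the flattening ideal over `C₁`
  obtain ⟨R₀, hleast, -, hkey⟩ := Groth.Agent.S4853.result (A := C₁) (𝓜.Mod C₁) I₁ hI₁ hfree₃
  have hR₀ : R₀ ≤ I₁ := hleast.2 hfree₃
  refine ⟨R₀.comap (algebraMap C C₁), ?_, ?_⟩
  · -- contained in the nilradical
    intro x hx
    have hx1 : algebraMap C C₁ x ∈ I₁ := hR₀ (Ideal.mem_comap.mp hx)
    obtain ⟨k, hk⟩ := hI₁
    have hxk : (algebraMap C C₁ x) ^ k = 0 := by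
      have : (algebraMap C C₁ x) ^ k ∈ I₁ ^ k := Ideal.pow_mem_pow hx1 k
      rw [hk] at this
      exact this
    rw [← map_pow] at hxk
    obtain ⟨⟨_, m, rfl⟩, hm⟩ :=
      (IsLocalization.map_eq_zero_iff (Submonoid.powers s) C₁ (x ^ k)).mp hxk
    have hmem : s ^ m * x ^ k ∈ n := by
      change s ^ m * x ^ k = 0 at hm
      rw [hm]; exact zero_mem _
    rcases hprime.mem_or_mem hmem with h1 | h1
    · exact absurd (hprime.mem_of_pow_mem m h1) hs
    · exact hprime.mem_of_pow_mem k h1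
  · intro A' _ _ _ _ hu
    letI alg1 : Algebra C₁ A' := (IsLocalization.Away.lift (S := C₁) s hu).toAlgebra
    haveI t1 : IsScalarTower C C₁ A' := IsScalarTower.of_algebraMap_eq (fun x => by
      change _ = IsLocalization.Away.lift (S := C₁) s hu (algebraMap C C₁ x)
      rw [IsLocalization.Away.lift_eq])
    haveI t2 : IsScalarTower Z C₁ A' := IsScalarTower.of_algebraMap_eq (fun z => by
      rw [IsScalarTower.algebraMap_apply Z C A', IsScalarTower.algebraMap_apply C C₁ A',
        ← IsScalarTower.algebraMap_apply Z C C₁])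
    have hflat : Module.Flat A' (𝓜.Mod A') ↔ Module.Flat A' (A' ⊗[C₁] 𝓜.Mod C₁) :=
      ⟨fun h => Module.Flat.of_linearEquiv (modBaseChange 𝓜 C₁ A'),
       fun h => Module.Flat.of_linearEquiv (modBaseChange 𝓜 C₁ A').symm⟩
    rw [hflat, (hkey A').2]
    have hmap : Ideal.map (algebraMap C C₁) (R₀.comap (algebraMap C C₁)) = R₀ :=
      IsLocalization.map_comap (Submonoid.powers s) C₁ R₀
    rw [IsScalarTower.algebraMap_eq C C₁ A', ← Ideal.map_map, hmap]

end Groth.Agent.H56.Flattening
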