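import Mathlib
import Groth.Agent.H56.Flattening.NoethCore
import Groth.Agent.H70.MinFree.Final

/-!
# Generic flattening ideal: ring level (helper56)

`A` a ring with prime nilradical, `B` a finitely presented `A`-algebra, `M` a finitely presented
`B`-module.  There are a non-nilpotent `h : A` and a finitely generated ideal `J ≤ nilradical A`
such that for every `A`-algebra `A'` in which `h` is invertible, `A' ⊗[A] M` is flat over `A'` iff
`J A' = 0`.
-/

set_option autoImplicit false
set_option linter.style.haveILetI false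
universe u
open TensorProduct Function

namespace Groth.Agent.H56.Flattening

open Groth.Agent.H1.FlatLocus Groth.Agent.H70.MinFree

attribute [local instance] MvPolynomial.algebraMvPolynomial

theorem exists_flattening_ideal_ring {A B : Type u} [CommRing A] [CommRing B] [Algebra A B]
    [Algebra.FinitePresentation A B] (hprime : (nilradical A).IsPrime)
    (M : Type u) [AddCommGroup M] [Module B M] [Module A M] [IsScalarTower A B M]
    [Module.FinitePresentation B M] :
    ∃ h : A, ¬ IsNilpotent h ∧ ∃ J : Ideal A, J.FG ∧ J ≤ nilradical A ∧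
      ∀ (A' : Type u) [CommRing A'] [Algebra A A'], IsUnit (algebraMap A A' h) →
        (Module.Flat A' (A' ⊗[A] M) ↔ Ideal.map (algebraMap A A') J = ⊥) := by
  obtain ⟨Z, hZ, 𝓜, φ, e, hφ, he⟩ := exists_model A B M
  have hft : Algebra.FiniteType ℤ Z := (Subalgebra.fg_iff_finiteType Z).mp hZ
  haveI hZnoeth : IsNoetherianRing Z := Algebra.FiniteType.isNoetherianRing ℤ Z
  have heA : ∀ (r : A) (x : 𝓜.Mod A), e (r • x) = r • e x := by
    intro r x
    rw [← algebraMap_smul (𝓜.P A) r x, he, AlgHom.commutes, algebraMap_smul]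
  let eA : 𝓜.Mod A ≃ₗ[A] M := { e with map_smul' := heA }
  have hinj : Function.Injective (algebraMap Z A) := Subtype.val_injective
  have hnilZ : nilradical Z = (nilradical A).comap (algebraMap Z A) := by
    ext x
    rw [Ideal.mem_comap, mem_nilradical, mem_nilradical]
    exact (IsNilpotent.map_iff hinj).symm
  have hprimeZ : (nilradical Z).IsPrime := by
    rw [hnilZ]
    exact Ideal.comap_isPrime _ _
  obtain ⟨s, hs, JZ, hJZ, hkey⟩ := exists_ideal_of_noetherian 𝓜 Z hprimeZ
  refine ⟨algebraMap Z A s, ?_, JZ.map (algebraMap Z A), ?_, ?_, ?_⟩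
  · intro hnil
    exact hs (mem_nilradical.mpr ((IsNilpotent.map_iff hinj).mp hnil))
  · exact Ideal.FG.map (IsNoetherian.noetherian JZ) _
  · rw [Ideal.map_le_iff_le_comap, ← hnilZ]
    exact hJZ
  · intro A' _ _ hu
    haveI : IsScalarTower Z A A' := IsScalarTower.of_algebraMap_eq fun z => rfl
    obtain ⟨eA'⟩ := nonempty_equiv_mod 𝓜 eA A'
    have hflat : Module.Flat A' (A' ⊗[A] M) ↔ Module.Flat A' (𝓜.Mod A') :=
      ⟨fun h => Module.Flat.of_linearEquiv eA'.symm, fun h => Module.Flat.of_linearEquiv eA'⟩
    have hu' : IsUnit (algebraMap Z A' s) := by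
      rw [IsScalarTower.algebraMap_apply Z A A']
      exact hu
    rw [hflat, hkey A' hu', Ideal.map_map, ← IsScalarTower.algebraMap_eq]

end Groth.Agent.H56.Flattening
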