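import Mathlib
import Groth.Agent.H56.Flattening.RingLevel
import Groth.Agent.H56.Flattening.Plumbing
import Groth.Agent.H44.FPSections

/-!
# Generic flattening ideal on an affine chart (helper56)
-/

set_option autoImplicit false
set_option linter.style.haveILetI false

open CategoryTheory Limits AlgebraicGeometry TopologicalSpace Opposite TensorProduct

namespace Groth.Agent.H56.Flattening

universe u

theorem exists_flattening_ideal_chart {A : Type u} [CommRing A] (hprime : (nilradical A).IsPrime)
    {X : Scheme.{u}} (f : X ⟶ Spec (CommRingCat.of A)) [LocallyOfFinitePresentation f]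
    (F : X.Modules) [F.IsQuasicoherent]
    [SheafOfModules.IsFinitePresentation (R := X.ringCatSheaf) F]
    {U : X.Opens} (hU : IsAffineOpen U) :
    ∃ h : A, ¬ IsNilpotent h ∧ ∃ J : Ideal A, J.FG ∧ J ≤ nilradical A ∧
      ∀ (A' : Type u) [CommRing A'] [Algebra A A'], IsUnit (algebraMap A A' h) →
        ((∀ x' : ↥(pullback f (Spec.map (CommRingCat.ofHom (algebraMap A A')))),
            pullback.fst f (Spec.map (CommRingCat.ofHom (algebraMap A A'))) x' ∈ U →
            FlatMod.IsFlatOverAt (pullback.snd f (Spec.map (CommRingCat.ofHom (algebraMap A A'))))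
              ((Scheme.Modules.pullback
                (pullback.fst f (Spec.map (CommRingCat.ofHom (algebraMap A A'))))).obj F) x') ↔
          Ideal.map (algebraMap A A') J = ⊥) := by
  letI algAB : Algebra A Γ(X, U) := (baseHom f U).toAlgebra
  letI modAM : Module A Γ(F, U) := baseModule f F U
  haveI : IsScalarTower A Γ(X, U) Γ(F, U) := IsScalarTower.of_algebraMap_smul (fun r m => rfl)
  haveI fpB : Algebra.FinitePresentation A Γ(X, U) := by
    have h1 : (f.appLE ⊤ U le_top).hom.FinitePresentation :=
      Scheme.Hom.finitePresentation_appLE f (isAffineOpen_top _) hU le_top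
    have h2 : (baseHom f U).FinitePresentation :=
      (RingHom.finitePresentation_respectsIso.cancel_left_isIso
        (Scheme.ΓSpecIso (CommRingCat.of A)).inv (f.appLE ⊤ U le_top)).mpr h1
    exact h2
  haveI fpM : Module.FinitePresentation Γ(X, U) Γ(F, U) :=
    Groth.Agent.H44.finitePresentation_sections_of_isFinitePresentation F hU
  obtain ⟨h, hh, J, hJ, hJn, key⟩ :=
    exists_flattening_ideal_ring (A := A) (B := Γ(X, U)) hprime Γ(F, U)
  refine ⟨h, hh, J, hJ, hJn, fun A' _ _ hu => ?_⟩
  rw [forall_isFlatOverAt_pullback_iff f F hU]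
  exact key A' hu

end Groth.Agent.H56.Flattening
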